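import Cfsg.Agent.Lib.Transfer.Frobenius
import Cfsg.Agent.Lib.Solvable.MinNormal
import Cfsg.Agent.Lib.InvChar.ConjRank.CentreFreeBasic
import Cfsg.Agent.Lib.Fusion.PSolvableAut
import Cfsg.Prelude.Def_Local

/-!
# Multiplicative class products force `p`-solvability (S3989)

If `(x y)^G = x^G y^G` for every `p`-element `x` and every element `y` of prime power order prime
to `p`, then `G` is `p`-solvable.  For `y` in a minimal normal subgroup `N` normalising a
`p`-subgroup of `N` and `x = [d, y]`, the element `x y` is conjugate to `y`, so `y^G` absorbs left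
multiplication by the normal closure of `x`; hence `x = 1`, and Frobenius applies to `N`.
-/

set_option autoImplicit false
set_option linter.unusedSectionVars false

namespace CfsgLib.ClassProd

open Subgroup

universe u

/-- The hypothesis of S3989. -/
def Mult (p : ℕ) (G : Type u) [Group G] : Prop :=
  ∀ x y : G, (∃ a : ℕ, orderOf x = p ^ a) → (∃ q b : ℕ, q.Prime ∧ q ≠ p ∧ orderOf y = q ^ b) →
    ∀ z : G, IsConj (x * y) z ↔ ∃ a b : G, z = a * x * a⁻¹ * (b * y * b⁻¹)

variable {G : Type u} [Group G] [Finite G] {p : ℕ} [hp : Fact p.Prime]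

/-- If `x y` is conjugate to `y`, then `y` lies in the normal closure of `x` only if `y = 1`. -/
theorem Mult.eq_one (h : Mult p G) {x y : G} (hx : ∃ a : ℕ, orderOf x = p ^ a)
    (hy : ∃ q b : ℕ, q.Prime ∧ q ≠ p ∧ orderOf y = q ^ b) (hxy : IsConj y (x * y))
    (hmem : y ∈ normalClosure ({x} : Set G)) : y = 1 := by
  let S : Subgroup G :=
    { carrier := {m | ∀ w, IsConj y w → IsConj y (m * w)}
      one_mem' := fun w hw => by rwa [one_mul]
      mul_mem' := fun {m n} hm hn w hw => by rw [mul_assoc]; exact hm _ (hn w hw)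
      inv_mem' := fun {m} hm => by
        have hpow : ∀ k : ℕ, ∀ w, IsConj y w → IsConj y (m ^ k * w) := by
          intro k
          induction k with
          | zero => intro w hw; rwa [pow_zero, one_mul]
          | succ k ih => intro w hw; rw [pow_succ', mul_assoc]; exact hm _ (ih w hw)
        intro w hw
        have hinv : m⁻¹ = m ^ (orderOf m - 1) := inv_eq_of_mul_eq_one_right (by
          rw [← pow_succ', Nat.sub_add_cancel (orderOf_pos m), pow_orderOf_eq_one])
        rw [hinv]
        exact hpow _ w hw }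
  have hle : normalClosure ({x} : Set G) ≤ S := by
    refine (closure_le _).2 fun m hm => ?_
    obtain ⟨x', hx', hxm⟩ := Group.mem_conjugatesOfSet_iff.1 hm
    rw [Set.mem_singleton_iff] at hx'
    subst hx'
    obtain ⟨a, rfl⟩ := isConj_iff.1 hxm
    intro w hw
    obtain ⟨b, rfl⟩ := isConj_iff.1 hw
    exact hxy.trans ((h _ y hx hy _).2 ⟨a, b, rfl⟩)
  have h1 : IsConj y (y⁻¹ * y) := (S.inv_mem (hle hmem)) y (IsConj.refl y)
  rw [inv_mul_cancel] at h1
  obtain ⟨c, hc⟩ := isConj_iff.1 h1
  exact conj_eq_one_iff.1 hc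

/-- A `p`-element of a quotient lifts to a `p`-element. -/
theorem exists_lift {H : Type u} [Group H] (f : G →* H) (hf : Function.Surjective f) {q : ℕ}
    [hq : Fact q.Prime] {y : H} {k : ℕ} (hy : orderOf y = q ^ k) :
    ∃ (g : G) (l : ℕ), f g = y ∧ orderOf g = q ^ l := by
  obtain ⟨g, rfl⟩ := hf y
  obtain ⟨a, m, hm, hord⟩ := Nat.exists_eq_pow_mul_and_not_dvd (orderOf_pos g).ne' q hq.out.ne_one
  have hcop : m.Coprime (orderOf (f g)) := by
    rw [hy]
    exact Nat.Coprime.pow_right _ ((Nat.Prime.coprime_iff_not_dvd hq.out).2 hm).symm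
  obtain ⟨c, hc⟩ := exists_pow_eq_self_of_coprime hcop
  have h1 : ((g ^ m) ^ c) ^ q ^ a = 1 := by
    rw [← pow_mul, ← pow_mul, show m * (c * q ^ a) = q ^ a * m * c by ring, pow_mul, ← hord,
      pow_orderOf_eq_one, one_pow]
  obtain ⟨l, -, hl⟩ := (Nat.dvd_prime_pow hq.out).1 (orderOf_dvd_of_pow_eq_one h1)
  exact ⟨(g ^ m) ^ c, l, by rw [map_pow, map_pow, hc], hl⟩

/-- The hypothesis passes to quotients. -/
theorem Mult.quotient (h : Mult p G) (N : Subgroup G) [N.Normal] : Mult p (G ⧸ N) := by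
  intro x y hx hy z
  obtain ⟨a, ha⟩ := hx
  obtain ⟨q, b, hq, hqp, hb⟩ := hy
  haveI := Fact.mk hq
  obtain ⟨x, la, rfl, hla⟩ := exists_lift (QuotientGroup.mk' N) (QuotientGroup.mk'_surjective N) ha
  obtain ⟨y, lb, rfl, hlb⟩ := exists_lift (QuotientGroup.mk' N) (QuotientGroup.mk'_surjective N) hb
  constructor
  · intro hz
    obtain ⟨c, rfl⟩ := isConj_iff.1 hz
    obtain ⟨c, rfl⟩ := QuotientGroup.mk'_surjective N c
    obtain ⟨a', b', e⟩ :=
      (h x y ⟨la, hla⟩ ⟨q, lb, hq, hqp, hlb⟩ (c * (x * y) * c⁻¹)).1 (isConj_iff.2 ⟨c, rfl⟩)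
    exact ⟨QuotientGroup.mk' N a', QuotientGroup.mk' N b', by
      simp only [← map_mul, ← map_inv, e]⟩
  · rintro ⟨a', b', rfl⟩
    obtain ⟨a', rfl⟩ := QuotientGroup.mk'_surjective N a'
    obtain ⟨b', rfl⟩ := QuotientGroup.mk'_surjective N b'
    have := MonoidHom.map_isConj (QuotientGroup.mk' N)
      ((h x y ⟨la, hla⟩ ⟨q, lb, hq, hqp, hlb⟩ (a' * x * a'⁻¹ * (b' * y * b'⁻¹))).2 ⟨a', b', rfl⟩)
    simpa only [map_mul, map_inv] using this

/-- A minimal normal subgroup is a `p`-group or has order prime to `p`. -/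
theorem Mult.minimal_normal (h : Mult p G) (N : Subgroup G) [N.Normal]
    (hmin : ∀ K : Subgroup G, K.Normal → K ≤ N → K = ⊥ ∨ K = N) :
    IsPGroup p N ∨ (Nat.card N).Coprime p := by
  have hfro : Cfsg.HasNormalPComplement p N := by
    rw [CfsgLib.Transfer.hasNormalPComplement_iff_frobenius]
    intro D hD g hg hgp
    refine CfsgLib.InvChar.ConjRank.mem_of_parts _ g fun k s i hs hk => ?_
    have hgk : g ^ k ∈ normalizer (D : Set N) := pow_mem hg k
    rw [mem_centralizer_iff]
    intro d hd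
    by_cases hi : g ^ k = 1
    · rw [hi, mul_one, one_mul]
    have hsp : s ≠ p := by
      rintro rfl
      have h2 : orderOf (g ^ k) = 1 :=
        Nat.eq_one_of_dvd_coprimes (Nat.Coprime.pow_left i (Nat.Prime.coprime_iff_not_dvd hs |>.2
          fun hd' => hs.ne_one (Nat.eq_one_of_dvd_coprimes hgp hd' (dvd_refl _)))) hk.dvd
          (orderOf_pow_dvd k)
      exact hi (orderOf_eq_one_iff.1 h2)
    set y : N := g ^ k with hyd
    have hx : d * y * d⁻¹ * y⁻¹ ∈ D := by
      have : y * d⁻¹ * y⁻¹ ∈ D := (mem_normalizer_iff.1 hgk d⁻¹).1 (D.inv_mem hd)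
      have := D.mul_mem hd this
      simpa only [mul_assoc] using this
    obtain ⟨a, ha⟩ := IsPGroup.iff_orderOf.1 hD ⟨_, hx⟩
    rw [← Subgroup.orderOf_coe] at ha
    by_contra hne
    set x : N := d * y * d⁻¹ * y⁻¹ with hxd
    have hx1 : (x : G) ≠ 1 := by
      intro e
      refine hne ?_
      have e' : x = 1 := Subtype.ext e
      rw [hxd, mul_inv_eq_one, mul_inv_eq_iff_eq_mul] at e'
      exact e'
    have hcl : normalClosure ({(x : G)} : Set G) = N := by
      refine (hmin _ normalClosure_normal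
        (normalClosure_le_normal (Set.singleton_subset_iff.2 x.2))).resolve_left fun e => hx1 ?_
      have := subset_normalClosure (G := G) (Set.mem_singleton (x : G))
      rw [e] at this
      exact mem_bot.1 this
    have hconj : IsConj (y : G) ((x : G) * (y : G)) := isConj_iff.2 ⟨(d : G), by
      rw [hxd]
      simp only [Subgroup.coe_mul, InvMemClass.coe_inv]
      group⟩
    have hy1 : (y : G) = 1 := h.eq_one (x := (x : G)) ⟨a, by rw [Subgroup.orderOf_coe]; exact ha⟩
      ⟨s, i, hs, hsp, by rw [Subgroup.orderOf_coe]; exact hk⟩ hconj (by rw [hcl]; exact y.2)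
    exact hi (Subtype.ext hy1)
  obtain ⟨P, K, hK, hc⟩ := hfro
  haveI := hK
  obtain ⟨n, hn⟩ := IsPGroup.iff_card.1 P.isPGroup'
  have hidx : K.index = p ^ n := by
    rw [hc.symm.index_eq_card, hn]
  have hKco : (Nat.card K).Coprime p := by
    rw [← hc.index_eq_card]
    exact (hp.out.coprime_iff_not_dvd.2 P.not_dvd_index).symm
  haveI : (K.map N.subtype).Normal := by
    refine ⟨fun v hv g => ?_⟩
    obtain ⟨v, hvK, rfl⟩ := hv
    have hN' : g * (v : G) * g⁻¹ ∈ N := (inferInstance : N.Normal).conj_mem _ v.2 g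
    refine ⟨⟨_, hN'⟩, ?_, rfl⟩
    rw [SetLike.mem_coe, ← QuotientGroup.eq_one_iff, ← orderOf_eq_one_iff]
    refine Nat.eq_one_of_dvd_coprimes (Nat.Coprime.pow_right n hKco)
      ?_ ?_
    · refine (orderOf_map_dvd (QuotientGroup.mk' K) _).trans ?_
      rw [← Subgroup.orderOf_coe, Subgroup.coe_mk]
      have : orderOf (g * (v : G) * g⁻¹) = orderOf v := by
        rw [← Subgroup.orderOf_coe v]
        exact orderOf_injective (MulAut.conj g).toMonoidHom (MulAut.conj g).injective _
      rw [this]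
      exact K.orderOf_dvd_natCard hvK
    · rw [← hidx, index_eq_card]
      exact orderOf_dvd_natCard _
  rcases hmin (K.map N.subtype) inferInstance (map_subtype_le K) with hb | ht
  · left
    have hK0 : K = ⊥ := (map_eq_bot_iff_of_injective _ N.subtype_injective).1 hb
    refine IsPGroup.of_card (n := n) ?_
    rw [← hidx, hK0, index_bot]
  · right
    rwa [← card_map_of_injective N.subtype_injective, ht] at hKco

/-- **S3989**. -/
theorem isPSolvable (h : Mult p G) : Cfsg.IsPSolvable p G := by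
  suffices ∀ (n : ℕ) (G : Type u) [Group G] [Finite G], Nat.card G = n → Mult p G →
      Cfsg.IsPSolvable p G from this _ G rfl h
  intro n
  induction n using Nat.strong_induction_on with
  | _ n ih =>
    intro G _ _ hn h
    rcases subsingleton_or_nontrivial G with hs | hs
    · exact (CfsgLib.PLength.pSeriesLE_zero.2 (by simp [Nat.card_unique])).isPSolvable
    obtain ⟨N, hN, hN1, hmin⟩ := CfsgLib.Solvable.exists_minimal_normal (G := G)
    haveI := hN
    have hQ := ih _ (by
      rw [← hn, Subgroup.card_eq_card_quotient_mul_card_subgroup N]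
      exact lt_mul_of_one_lt_right Nat.card_pos (N.one_lt_card_iff_ne_bot.2 hN1)) (G ⧸ N) rfl
      (h.quotient N)
    obtain ⟨b, hb⟩ := CfsgLib.PLength.exists_pSeriesLE_of_isPSolvable hQ
    rcases h.minimal_normal N hmin with hpg | hco
    · exact (CfsgLib.PLength.PSeriesLE.of_normal N
        (CfsgLib.PLength.pSeriesLE_one_of_isPGroup hpg) hb).isPSolvable
    · exact (CfsgLib.PLength.PSeriesLE.of_normal N
        (CfsgLib.PLength.pSeriesLE_zero.2 hco) hb).isPSolvable

end CfsgLib.ClassProd
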